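import Groth.Agent.Lib.Helper7.EtaleLift.Local
import Groth.Agent.Lib.Helper7.GlueThick

/-!
# Global existence of étale lifts along a surjective closed immersion

Topological invariance of the étale site, essential surjectivity: every étale `S₀`-scheme is the
restriction of an étale `S`-scheme (no separatedness or quasi-compactness assumptions).
-/

set_option autoImplicit false

namespace Groth.Agent.Lib.Helper7.EtaleLift

open AlgebraicGeometry CategoryTheory Limits TopologicalSpace

universe u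

variable {S S₀ : Scheme.{u}} (i : S₀ ⟶ S) {U₀ : Scheme.{u}} (u₀ : U₀ ⟶ S₀)

/-- The affine opens of `U₀` that lift to an étale `S`-scheme. -/
def liftOpens : Set U₀.Opens :=
  {W | ∃ hW : IsAffineOpen W, ∃ (Y : Scheme.{u}) (j : Spec Γ(U₀, W) ⟶ Y) (y : Y ⟶ S),
    IsEtLift i (hW.fromSpec ≫ u₀) j y}

lemma liftOpens_isAffineOpen : ∀ W ∈ liftOpens i u₀, IsAffineOpen W := fun _ h => h.1

variable [IsClosedImmersion i] [Surjective i] [Etale u₀]

theorem liftOpens_isBasis : Opens.IsBasis (liftOpens i u₀) := by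
  rw [Opens.isBasis_iff_nbhd]
  intro O x hx
  obtain ⟨T, hT, f, hf, Y, j, y, hxf, hfO, hlift⟩ := exists_local_lift i u₀ x O hx
  have hW : IsAffineOpen f.opensRange := isAffineOpen_opensRange f
  refine ⟨f.opensRange, ⟨hW, ?_⟩, hxf, hfO⟩
  let ε : Spec Γ(U₀, f.opensRange) ≅ T :=
    IsOpenImmersion.isoOfRangeEq hW.fromSpec f (by rw [hW.range_fromSpec]; rfl)
  have hε : ε.hom ≫ f = hW.fromSpec := IsOpenImmersion.isoOfRangeEq_hom_fac _ _ _
  refine ⟨Y, ε.hom ≫ j, y, ?_⟩
  have := hlift.of_iso ε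
  rwa [← Category.assoc, hε] at this

/-- The cover of `U₀` by liftable affine opens. -/
noncomputable abbrev cov : U₀.OpenCover :=
  basisCover (liftOpens i u₀) (liftOpens_isAffineOpen i u₀) (liftOpens_isBasis i u₀)

/-- The chosen lift. -/
noncomputable def liftY (W : (cov i u₀).I₀) : Scheme.{u} := W.2.choose_spec.choose

/-- The chosen lift: closed immersion. -/
noncomputable def liftJ (W : (cov i u₀).I₀) : (cov i u₀).X W ⟶ liftY i u₀ W :=
  W.2.choose_spec.choose_spec.choose

/-- The chosen lift: structure map. -/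
noncomputable def liftHom (W : (cov i u₀).I₀) : liftY i u₀ W ⟶ S :=
  W.2.choose_spec.choose_spec.choose_spec.choose

lemma lift_spec (W : (cov i u₀).I₀) :
    IsEtLift i ((cov i u₀).f W ≫ u₀) (liftJ i u₀ W) (liftHom i u₀ W) :=
  W.2.choose_spec.choose_spec.choose_spec.choose_spec

lemma exists_trans {k l : (cov i u₀).I₀} (f : k ⟶ l) :
    ∃ ρ : liftY i u₀ k ⟶ liftY i u₀ l, ρ ≫ liftHom i u₀ l = liftHom i u₀ k ∧
      liftJ i u₀ k ≫ ρ = (cov i u₀).trans f ≫ liftJ i u₀ l :=
  (lift_spec i u₀ k).exists_hom (lift_spec i u₀ l) ((cov i u₀).trans f)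
    (by rw [← Category.assoc, Scheme.Cover.trans_map])

/-- The transition maps between the chosen lifts. -/
noncomputable def liftTrans {k l : (cov i u₀).I₀} (f : k ⟶ l) : liftY i u₀ k ⟶ liftY i u₀ l :=
  (exists_trans i u₀ f).choose

lemma liftTrans_hom {k l : (cov i u₀).I₀} (f : k ⟶ l) :
    liftTrans i u₀ f ≫ liftHom i u₀ l = liftHom i u₀ k := (exists_trans i u₀ f).choose_spec.1

lemma liftJ_trans {k l : (cov i u₀).I₀} (f : k ⟶ l) :
    liftJ i u₀ k ≫ liftTrans i u₀ f = (cov i u₀).trans f ≫ liftJ i u₀ l :=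
  (exists_trans i u₀ f).choose_spec.2

/-- The gluing data of the local lifts. -/
noncomputable def glueData : ThickGlueData (cov i u₀) where
  Y := liftY i u₀
  i := liftJ i u₀
  surj W := (lift_spec i u₀ W).isHomeomorph.surjective
  inj W := (lift_spec i u₀ W).isHomeomorph.injective
  ρ f := liftTrans i u₀ f
  ρ_id k := by
    have := (lift_spec i u₀ k).etale
    apply (lift_spec i u₀ k).hom_ext (liftHom i u₀ k)
    · rw [liftTrans_hom, Category.id_comp]
    · rw [liftJ_trans, Scheme.Cover.trans_id, Category.id_comp, Category.comp_id]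
  ρ_comp {k l m} f g := by
    have := (lift_spec i u₀ m).etale
    apply (lift_spec i u₀ k).hom_ext (liftHom i u₀ m)
    · rw [liftTrans_hom, Category.assoc, liftTrans_hom, liftTrans_hom]
    · rw [liftJ_trans, Scheme.Cover.trans_comp, Category.assoc,
        ← Category.assoc (liftJ i u₀ k), liftJ_trans, Category.assoc, liftJ_trans]
  i_ρ f := liftJ_trans i u₀ f
  ρ_open {k l} f := by
    have : IsOpenImmersion ((cov i u₀).trans f) := (cov i u₀).property_trans f
    exact (lift_spec i u₀ k).isOpenImmersion_hom (lift_spec i u₀ l) ((cov i u₀).trans f)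
      (by rw [← Category.assoc, Scheme.Cover.trans_map]) _ (liftTrans_hom i u₀ f)
      (liftJ_trans i u₀ f)

/-- Gluing local lifts along abstract gluing data. -/
theorem isEtLift_glued {𝒰 : Scheme.OpenCover.{u} U₀} [Category.{u} 𝒰.I₀] [𝒰.LocallyDirected]
    [Quiver.IsThin 𝒰.I₀] [Small.{u} 𝒰.I₀] (D : ThickGlueData 𝒰) (y : ∀ k, D.Y k ⟶ S)
    (hy : ∀ {k l : 𝒰.I₀} (f : k ⟶ l), D.ρ f ≫ y l = y k)
    (hlift : ∀ k, IsEtLift i (𝒰.f k ≫ u₀) (D.i k) (y k)) :
    IsEtLift i u₀ D.gi (D.desc y hy) := by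
  have hu : ∀ W, D.ι W ≫ D.desc y hy = y W := fun W => D.ι_desc _ _ W
  refine ⟨?_, ?_⟩
  · refine IsZariskiLocalAtSource.of_openCover (P := @Etale) D.cover (fun W => ?_)
    show Etale (D.ι W ≫ D.desc y hy)
    rw [hu]
    exact (hlift W).etale
  · refine Scheme.isPullback_of_openCover D.gi u₀ (D.desc y hy) i D.cover (fun W => ?_)
    show IsPullback (pullback.snd D.gi (D.ι W)) (pullback.fst D.gi (D.ι W) ≫ u₀)
      (D.ι W ≫ D.desc y hy) i
    have h1 : IsPullback (D.i W) (𝒰.f W ≫ u₀) (D.ι W ≫ D.desc y hy) i := by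
      rw [hu]
      exact (hlift W).isPullback
    have h2 := (D.isPullback W).flip
    refine h1.of_iso h2.isoPullback (Iso.refl _) (Iso.refl _) (Iso.refl _) ?_ ?_ ?_ ?_
    · rw [Iso.refl_hom, Category.comp_id]
      exact h2.isoPullback_hom_snd.symm
    · rw [Iso.refl_hom, Category.comp_id, ← Category.assoc, h2.isoPullback_hom_fst]
    · rw [Iso.refl_hom, Iso.refl_hom, Category.comp_id, Category.id_comp]
    · rw [Iso.refl_hom, Iso.refl_hom, Category.comp_id, Category.id_comp]

/-- **Topological invariance of the étale site, essential surjectivity**: every étale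
`S₀`-scheme lifts to an étale `S`-scheme. -/
theorem exists_isEtLift : ∃ (U : Scheme.{u}) (k : U₀ ⟶ U) (u : U ⟶ S), IsEtLift i u₀ k u :=
  ⟨_, _, _, isEtLift_glued i u₀ (glueData i u₀) (fun W => liftHom i u₀ W)
    (fun f => liftTrans_hom i u₀ f) (fun W => lift_spec i u₀ W)⟩

end Groth.Agent.Lib.Helper7.EtaleLift
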