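import Groth.Agent.Lib.Helper69.UnivHomeo2

/-!
# Lifts of étale schemes along a surjective closed immersion

`IsEtLift i w j y` : the étale `S`-scheme `y : Y ⟶ S` restricts along `i : S₀ ⟶ S` to
`w : W ⟶ S₀` (via `j : W ⟶ Y`).
-/

set_option autoImplicit false

namespace Groth.Agent.Lib.Helper7.EtaleLift

open AlgebraicGeometry CategoryTheory Limits TopologicalSpace Groth.Agent.Lib.Helper69

universe u

variable {S S₀ : Scheme.{u}} (i : S₀ ⟶ S)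

/-- `(Y, y, j)` lifts the `S₀`-scheme `w : W ⟶ S₀` to an étale `S`-scheme. -/
structure IsEtLift {W Y : Scheme.{u}} (w : W ⟶ S₀) (j : W ⟶ Y) (y : Y ⟶ S) : Prop where
  etale : Etale y
  isPullback : IsPullback j w y i

namespace IsEtLift

variable {i} [IsClosedImmersion i] [Surjective i]

section

variable {W Y : Scheme.{u}} {w : W ⟶ S₀} {j : W ⟶ Y} {y : Y ⟶ S}

lemma isClosedImmersion (h : IsEtLift i w j y) : IsClosedImmersion j :=
  MorphismProperty.of_isPullback (P := @IsClosedImmersion) h.isPullback.flip ‹_›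

lemma surjective (h : IsEtLift i w j y) : Surjective j :=
  MorphismProperty.of_isPullback (P := @Surjective) h.isPullback.flip ‹_›

lemma isHomeomorph (h : IsEtLift i w j y) : IsHomeomorph j := by
  have := h.isClosedImmersion
  have := h.surjective
  exact isHomeomorph_iff_isEmbedding_surjective.mpr
    ⟨j.isClosedEmbedding.isEmbedding, j.surjective⟩

lemma etale_source (h : IsEtLift i w j y) : Etale w :=
  MorphismProperty.of_isPullback (P := @Etale) h.isPullback h.etale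

/-- Transport along an isomorphism of the source. -/
lemma of_iso (h : IsEtLift i w j y) {W' : Scheme.{u}} (ε : W' ≅ W) :
    IsEtLift i (ε.hom ≫ w) (ε.hom ≫ j) y :=
  ⟨h.etale, h.isPullback.of_iso' ε (Iso.refl _) (Iso.refl _) (Iso.refl _) (by simp) (by simp)
    (by simp) (by simp)⟩

/-- Morphisms out of a lift into an étale `S`-scheme are determined by their restriction. -/
theorem hom_ext (h : IsEtLift i w j y) {Y₂ : Scheme.{u}} (y₂ : Y₂ ⟶ S) [Etale y₂]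
    (ρ ρ' : Y ⟶ Y₂) (hy : ρ ≫ y₂ = ρ' ≫ y₂) (hj : j ≫ ρ = j ≫ ρ') : ρ = ρ' := by
  have := h.surjective
  have : IsOpenImmersion (pullback.diagonal y₂) := inferInstance
  exact eq_of_comp_eq_of_surjective y₂ ρ ρ' hy j hj

end

section

variable {W₁ W₂ Y₁ Y₂ : Scheme.{u}} {w₁ : W₁ ⟶ S₀} {w₂ : W₂ ⟶ S₀} {j₁ : W₁ ⟶ Y₁} {j₂ : W₂ ⟶ Y₂}
  {y₁ : Y₁ ⟶ S} {y₂ : Y₂ ⟶ S}

/-- Morphisms between the restrictions lift. -/
theorem exists_hom (h₁ : IsEtLift i w₁ j₁ y₁) (h₂ : IsEtLift i w₂ j₂ y₂) (ι : W₁ ⟶ W₂)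
    (hι : ι ≫ w₂ = w₁) : ∃ ρ : Y₁ ⟶ Y₂, ρ ≫ y₂ = y₁ ∧ j₁ ≫ ρ = ι ≫ j₂ := by
  have := h₁.isClosedImmersion
  have := h₁.surjective
  have := h₂.etale
  have : UniversallyInjective j₁ := inferInstance
  have : IsIntegralHom j₁ := inferInstance
  exact exists_desc_of_universalHomeo' j₁ y₂ y₁ (ι ≫ j₂)
    (by rw [Category.assoc, h₂.isPullback.w, ← Category.assoc, hι, h₁.isPullback.w])

/-- A comparison map over an isomorphism is an isomorphism. -/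
theorem isIso_hom (h₁ : IsEtLift i w₁ j₁ y₁) (h₂ : IsEtLift i w₂ j₂ y₂) (ε : W₁ ≅ W₂)
    (hε : ε.hom ≫ w₂ = w₁) (ρ : Y₁ ⟶ Y₂) (hρ1 : ρ ≫ y₂ = y₁) (hρ2 : j₁ ≫ ρ = ε.hom ≫ j₂) :
    IsIso ρ := by
  obtain ⟨ρ', hρ'1, hρ'2⟩ := exists_hom h₂ h₁ ε.inv (by rw [← hε, Iso.inv_hom_id_assoc])
  have := h₁.etale
  have := h₂.etale
  refine ⟨ρ', ?_, ?_⟩
  · apply h₁.hom_ext y₁
    · rw [Category.assoc, hρ'1, hρ1, Category.id_comp]
    · rw [← Category.assoc, hρ2, Category.assoc, hρ'2, Iso.hom_inv_id_assoc, Category.comp_id]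
  · apply h₂.hom_ext y₂
    · rw [Category.assoc, hρ1, hρ'1, Category.id_comp]
    · rw [← Category.assoc, hρ'2, Category.assoc, hρ2, Iso.inv_hom_id_assoc, Category.comp_id]

/-- Restriction of a lift to an open subscheme of the source. -/
theorem exists_restrict (h₂ : IsEtLift i w₂ j₂ y₂) (ι : W₁ ⟶ W₂) [IsOpenImmersion ι] :
    ∃ (O : Y₂.Opens) (iV : W₁ ⟶ O), iV ≫ O.ι = ι ≫ j₂ ∧ IsEtLift i (ι ≫ w₂) iV (O.ι ≫ y₂) ∧
      ∀ z, j₂ (ι z) ∈ O := by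
  have hhomeo := h₂.isHomeomorph
  let O : Y₂.Opens := ⟨j₂ '' (Set.range ι), hhomeo.isOpenMap _ ι.isOpenEmbedding.isOpen_range⟩
  have hO : ∀ z, j₂ (ι z) ∈ O := fun z => ⟨ι z, ⟨z, rfl⟩, rfl⟩
  have hr1 : Set.range (ι ≫ j₂) ⊆ Set.range O.ι := by
    rintro _ ⟨z, rfl⟩
    rw [Scheme.Opens.range_ι, Scheme.Hom.comp_apply]
    exact hO z
  let iV : W₁ ⟶ O := IsOpenImmersion.lift O.ι (ι ≫ j₂) hr1
  have hiV : iV ≫ O.ι = ι ≫ j₂ := IsOpenImmersion.lift_fac _ _ _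
  have sq : IsPullback iV ι O.ι j₂ := by
    apply IsOpenImmersion.isPullback
    · exact hiV.symm
    · ext z
      simp only [Scheme.Opens.opensRange_ι]
      constructor
      · rintro ⟨w, ⟨z', rfl⟩, hw⟩
        exact ⟨z', hhomeo.injective hw⟩
      · rintro ⟨z', rfl⟩
        exact hO z'
  have := h₂.etale
  exact ⟨O, iV, hiV, ⟨inferInstance, sq.paste_vert h₂.isPullback⟩, hO⟩

/-- The comparison map over an open immersion is an open immersion. -/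
theorem isOpenImmersion_hom (h₁ : IsEtLift i w₁ j₁ y₁) (h₂ : IsEtLift i w₂ j₂ y₂) (ι : W₁ ⟶ W₂)
    [IsOpenImmersion ι] (hι : ι ≫ w₂ = w₁) (ρ : Y₁ ⟶ Y₂) (hρ1 : ρ ≫ y₂ = y₁)
    (hρ2 : j₁ ≫ ρ = ι ≫ j₂) : IsOpenImmersion ρ := by
  obtain ⟨O, iV, hiV, h₃, hO⟩ := h₂.exists_restrict ι
  have hs₁ := h₁.surjective
  have hr2 : Set.range ρ ⊆ Set.range O.ι := by
    rintro _ ⟨y, rfl⟩
    obtain ⟨z, rfl⟩ := j₁.surjective y
    rw [Scheme.Opens.range_ι, ← Scheme.Hom.comp_apply, hρ2, Scheme.Hom.comp_apply]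
    exact hO z
  let ρ' : Y₁ ⟶ O := IsOpenImmersion.lift O.ι ρ hr2
  have hρ' : ρ' ≫ O.ι = ρ := IsOpenImmersion.lift_fac _ _ _
  have : IsIso ρ' := by
    refine isIso_hom h₁ h₃ (Iso.refl _) (by simpa using hι) ρ' ?_ ?_
    · rw [← Category.assoc, hρ', hρ1]
    · rw [← cancel_mono O.ι, Category.assoc, hρ', hρ2, Iso.refl_hom, Category.id_comp, hiV]
  rw [← hρ']
  infer_instance

end

end IsEtLift

end Groth.Agent.Lib.Helper7.EtaleLift
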