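import Mathlib.RingTheory.Etale.StandardEtale
import Mathlib.RingTheory.Polynomial.Basic
import Mathlib.Algebra.Polynomial.Lifts
import Mathlib.Algebra.Category.Ring.Constructions
import Mathlib.RingTheory.RingHom.Etale

/-!
# Lifting standard étale algebras along surjections
-/

set_option autoImplicit false

namespace Groth.Agent.Lib.Helper7.EtaleLift

open Polynomial TensorProduct CategoryTheory Limits

universe u

/-- Lift a standard étale pair along a surjective ring map, up to multiplying `g` by `f'`. -/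
theorem exists_standardEtalePair_lift {A A₀ : Type u} [CommRing A] [CommRing A₀] (π : A →+* A₀)
    (hπ : Function.Surjective π) (P₀ : StandardEtalePair A₀) :
    ∃ P : StandardEtalePair A, (P.map π).f = P₀.f ∧ (P.map π).g = P₀.g * derivative P₀.f := by
  have hf : P₀.f ∈ Polynomial.lifts π := by
    rw [Polynomial.mem_lifts]
    exact Polynomial.map_surjective π hπ P₀.f
  obtain ⟨f, hf1, -, hf3⟩ := Polynomial.lifts_and_natDegree_eq_and_monic hf P₀.monic_f
  obtain ⟨g₁, hg₁⟩ := Polynomial.map_surjective π hπ P₀.g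
  refine ⟨⟨f, hf3, g₁ * derivative f, ⟨g₁, 0, 1, by ring⟩⟩, hf1, ?_⟩
  simp only [StandardEtalePair.map_g, Polynomial.map_mul, hg₁]
  rw [← Polynomial.derivative_map, hf1]

/-- Multiplying `g` by `f'` does not change the standard étale algebra. -/
noncomputable def equivOfEq {A₀ : Type u} [CommRing A₀] (P₀ P₀' : StandardEtalePair A₀)
    (hf : P₀'.f = P₀.f) (hg : P₀'.g = P₀.g * derivative P₀.f) : P₀'.Ring ≃ₐ[A₀] P₀.Ring := by
  have h1 : P₀'.HasMap P₀.X := by
    refine ⟨by rw [hf]; exact P₀.hasMap_X.1, ?_⟩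
    rw [hg, map_mul]
    exact (P₀.hasMap_X.2).mul (P₀.hasMap_X.isUnit_derivative_f)
  have h2 : P₀.HasMap P₀'.X := by
    refine ⟨by rw [← hf]; exact P₀'.hasMap_X.1, ?_⟩
    have := P₀'.hasMap_X.2
    rw [hg, map_mul] at this
    exact isUnit_of_mul_isUnit_left this
  exact AlgEquiv.ofAlgHom (P₀'.lift P₀.X h1) (P₀.lift P₀'.X h2)
    (P₀.hom_ext (by simp)) (P₀'.hom_ext (by simp))

/-- Standard étale algebras lift along surjections. -/
theorem exists_etale_lift (A A₀ C : Type u) [CommRing A] [CommRing A₀] [CommRing C] [Algebra A A₀]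
    (hπ : Function.Surjective (algebraMap A A₀)) [Algebra A₀ C] [Algebra.IsStandardEtale A₀ C] :
    ∃ (B : Type u) (_ : CommRing B) (_ : Algebra A B), Algebra.Etale A B ∧
      Nonempty (C ≃ₐ[A₀] A₀ ⊗[A] B) := by
  let Q₀ : StandardEtalePresentation A₀ C :=
    Algebra.IsStandardEtale.nonempty_standardEtalePresentation.some
  obtain ⟨P, hPf, hPg⟩ := exists_standardEtalePair_lift (algebraMap A A₀) hπ Q₀.P
  let QP : StandardEtalePresentation A P.Ring :=
    ⟨P, P.X, P.hasMap_X, by simpa [StandardEtalePair.lift_X_left] using Function.bijective_id⟩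
  let e₁ : A₀ ⊗[A] P.Ring ≃ₐ[A₀] (P.map (algebraMap A A₀)).Ring :=
    (QP.baseChange (T := A₀)).equivRing
  let e₂ : (P.map (algebraMap A A₀)).Ring ≃ₐ[A₀] Q₀.P.Ring := equivOfEq Q₀.P _ hPf hPg
  exact ⟨P.Ring, inferInstance, inferInstance, inferInstance,
    ⟨(Q₀.equivRing.trans e₂.symm).trans e₁.symm⟩⟩

/-- `CommRingCat` form of `exists_etale_lift`: a standard étale algebra over a quotient `A₀` of `A`
is the pushout of an étale `A`-algebra. -/
theorem exists_etale_lift_commRingCat {A A₀ C : CommRingCat.{u}} (π : A ⟶ A₀)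
    (hπ : Function.Surjective π.hom) (γ : A₀ ⟶ C)
    (hγ : @Algebra.IsStandardEtale A₀ C _ _ γ.hom.toAlgebra) :
    ∃ (B : CommRingCat.{u}) (φ : A ⟶ B) (ψ : B ⟶ C), φ.hom.Etale ∧ IsPushout π φ γ ψ := by
  letI : Algebra A A₀ := π.hom.toAlgebra
  letI : Algebra A₀ C := γ.hom.toAlgebra
  obtain ⟨B, _, _, hB, ⟨e⟩⟩ := exists_etale_lift A A₀ C hπ
  refine ⟨CommRingCat.of B, CommRingCat.ofHom (algebraMap A B),
    CommRingCat.ofHom (e.symm.toRingEquiv.toRingHom.comp
      (Algebra.TensorProduct.includeRight (R := A) (A := A₀) (B := B)).toRingHom), ?_, ?_⟩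
  · exact RingHom.etale_algebraMap.mpr hB
  · have h0 := CommRingCat.isPushout_tensorProduct A A₀ B
    refine h0.of_iso (Iso.refl _) (Iso.refl _) (Iso.refl _) e.symm.toRingEquiv.toCommRingCatIso
      ?_ ?_ ?_ ?_
    · ext x; rfl
    · ext x; rfl
    · ext x
      simp only [Iso.refl_hom, Category.id_comp]
      show e.symm (x ⊗ₜ 1) = γ.hom x
      rw [show (x ⊗ₜ[A] (1 : B) : A₀ ⊗[A] B) = algebraMap A₀ (A₀ ⊗[A] B) x from rfl,
        AlgEquiv.commutes]
      rfl
    · ext x; rfl

end Groth.Agent.Lib.Helper7.EtaleLift
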