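import Groth.Agent.Lib.Helper7.EtaleLift.Basic
import Groth.Agent.Lib.Helper7.EtaleLift.StdEtale
import Mathlib.RingTheory.Unramified.LocalStructure

/-!
# Local existence of étale lifts along a surjective closed immersion
-/

set_option autoImplicit false

namespace Groth.Agent.Lib.Helper7.EtaleLift

open AlgebraicGeometry CategoryTheory Limits TopologicalSpace

universe u

variable {S S₀ : Scheme.{u}} (i : S₀ ⟶ S) [IsClosedImmersion i] [Surjective i]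

set_option backward.isDefEq.respectTransparency.types false in
/-- Local existence of lifts: every point of an étale `S₀`-scheme has arbitrarily small affine
open neighbourhoods that lift to étale `S`-schemes. -/
theorem exists_local_lift {U₀ : Scheme.{u}} (u₀ : U₀ ⟶ S₀) [Etale u₀] (x : U₀) (O : U₀.Opens)
    (hx : x ∈ O) :
    ∃ (T : Scheme.{u}) (_ : IsAffine T) (f : T ⟶ U₀) (_ : IsOpenImmersion f) (Y : Scheme.{u})
      (j : T ⟶ Y) (y : Y ⟶ S), x ∈ Set.range f ∧ Set.range f ⊆ O ∧ IsEtLift i (f ≫ u₀) j y := by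
  obtain ⟨V, hV, hsV, -⟩ := Opens.isBasis_iff_nbhd.mp S.isBasis_affineOpens
    (Opens.mem_top (i (u₀ x)))
  have hV : IsAffineOpen V := hV
  have hV₀ : IsAffineOpen (i ⁻¹ᵁ V) := hV.preimage i
  have hxO' : x ∈ O ⊓ u₀ ⁻¹ᵁ (i ⁻¹ᵁ V) := ⟨hx, hsV⟩
  obtain ⟨W₁, hW₁, hxW₁, hW₁O⟩ := Opens.isBasis_iff_nbhd.mp U₀.isBasis_affineOpens hxO'
  have hW₁ : IsAffineOpen W₁ := hW₁
  have e : W₁ ≤ u₀ ⁻¹ᵁ (i ⁻¹ᵁ V) := hW₁O.trans inf_le_right
  have hφ₁ : (u₀.appLE (i ⁻¹ᵁ V) W₁ e).hom.Etale := u₀.etale_appLE hV₀ hW₁ e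
  have hπ : Function.Surjective (i.app V).hom := i.app_surjective V hV
  letI : Algebra Γ(S₀, i ⁻¹ᵁ V) Γ(U₀, W₁) := (u₀.appLE (i ⁻¹ᵁ V) W₁ e).hom.toAlgebra
  have hEt : Algebra.Etale Γ(S₀, i ⁻¹ᵁ V) Γ(U₀, W₁) := hφ₁
  let q₀ : Ideal Γ(U₀, W₁) := (hW₁.primeIdealOf ⟨x, hxW₁⟩).asIdeal
  have hq₀ : q₀.IsPrime := (hW₁.primeIdealOf ⟨x, hxW₁⟩).isPrime
  have : Algebra.IsEtaleAt Γ(S₀, i ⁻¹ᵁ V) q₀ := by
    have : Algebra.FormallyEtale Γ(S₀, i ⁻¹ᵁ V) Γ(U₀, W₁) := hEt.formallyEtale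
    infer_instance
  obtain ⟨g, hg, hstd⟩ := Algebra.IsEtaleAt.exists_isStandardEtale (R := Γ(S₀, i ⁻¹ᵁ V)) q₀
  let γ : Γ(S₀, i ⁻¹ᵁ V) ⟶ CommRingCat.of (Localization.Away g) :=
    CommRingCat.ofHom (algebraMap Γ(S₀, i ⁻¹ᵁ V) (Localization.Away g))
  have hstd' : @Algebra.IsStandardEtale Γ(S₀, i ⁻¹ᵁ V) (CommRingCat.of (Localization.Away g)) _ _
      γ.hom.toAlgebra := by
    have : (γ.hom.toAlgebra : Algebra Γ(S₀, i ⁻¹ᵁ V) (Localization.Away g)) =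
        (inferInstance : Algebra Γ(S₀, i ⁻¹ᵁ V) (Localization.Away g)) :=
      Algebra.algebra_ext _ _ (fun _ => rfl)
    rw [this]
    exact hstd
  obtain ⟨B, φ, ψ, hφ, hpo⟩ := exists_etale_lift_commRingCat (i.app V) hπ γ hstd'
  let loc : Γ(U₀, W₁) ⟶ CommRingCat.of (Localization.Away g) :=
    CommRingCat.ofHom (algebraMap Γ(U₀, W₁) (Localization.Away g))
  have hγ : γ = u₀.appLE (i ⁻¹ᵁ V) W₁ e ≫ loc := by
    ext a
    exact IsScalarTower.algebraMap_apply Γ(S₀, i ⁻¹ᵁ V) Γ(U₀, W₁) (Localization.Away g) a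
  have : IsOpenImmersion (Spec.map loc) :=
    IsOpenImmersion.of_isLocalization g
  let f : Spec (CommRingCat.of (Localization.Away g)) ⟶ U₀ := Spec.map loc ≫ hW₁.fromSpec
  have hrange : Set.range f ⊆ W₁ := by
    rintro _ ⟨z, rfl⟩
    have : hW₁.fromSpec (Spec.map loc z) ∈ Set.range hW₁.fromSpec := ⟨_, rfl⟩
    rw [hW₁.range_fromSpec] at this
    exact this
  have hfu : f ≫ u₀ = Spec.map γ ≫ hV₀.fromSpec := by
    rw [hγ, Spec.map_comp, Category.assoc, Category.assoc,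
      IsAffineOpen.SpecMap_appLE_fromSpec u₀ hV₀ hW₁ e]
  have hEtφ : Etale (Spec.map φ) := (HasRingHomProperty.Spec_iff (P := @Etale)).mpr hφ
  refine ⟨Spec (CommRingCat.of (Localization.Away g)), inferInstance, f, inferInstance, Spec B,
    Spec.map ψ, Spec.map φ ≫ hV.fromSpec, ?_, ?_, ⟨inferInstance, ?_⟩⟩
  · have h1 : hW₁.primeIdealOf ⟨x, hxW₁⟩ ∈ Set.range (Spec.map loc) := by
      have := PrimeSpectrum.localization_away_comap_range (Localization.Away g) g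
      change hW₁.primeIdealOf ⟨x, hxW₁⟩ ∈
        Set.range (PrimeSpectrum.comap (algebraMap Γ(U₀, W₁) (Localization.Away g)))
      rw [this]
      exact hg
    obtain ⟨z, hz⟩ := h1
    refine ⟨z, ?_⟩
    rw [Scheme.Hom.comp_apply, hz, hW₁.fromSpec_primeIdealOf]
  · exact hrange.trans (fun z hz => (hW₁O hz).1)
  · rw [hfu]
    have top := (isPullback_SpecMap_of_isPushout (i.app V) φ γ ψ hpo).flip
    have bot : IsPullback (Spec.map (i.app V)) hV₀.fromSpec hV.fromSpec i := by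
      apply IsOpenImmersion.isPullback
      · rw [← IsAffineOpen.SpecMap_appLE_fromSpec i hV hV₀ le_rfl, Scheme.Hom.app_eq_appLE]
      · rw [hV.opensRange_fromSpec, hV₀.opensRange_fromSpec]
    exact top.paste_vert bot

end Groth.Agent.Lib.Helper7.EtaleLift
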